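import Groth.Agent.Synt29.NLComp
import Mathlib

/-! The Jacobian determinant annihilates the naive cotangent complex. -/

set_option autoImplicit false
set_option linter.style.haveILetI false
set_option backward.isDefEq.respectTransparency.types false

universe u

open CategoryTheory CategoryTheory.Limits Groth.Agent.Synt29

namespace NLJac

attribute [local instance] HasDerivedCategory.standard

variable {B : Type u} [CommRing B] {M P : Type u} [AddCommGroup M] [Module B M] [AddCommGroup P] [Module B P]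

theorem twoTerm_hom_ext {M' P' : Type u} [AddCommGroup M'] [Module B M'] [AddCommGroup P'] [Module B P']
    {d : M →ₗ[B] P} {d' : M' →ₗ[B] P'} (f g : twoTerm d ⟶ twoTerm d')
    (h₁ : ∀ x, (f.f (-1)).hom x = (g.f (-1)).hom x) (h₀ : ∀ x, (f.f 0).hom x = (g.f 0).hom x) :
    f = g := by
  refine HomologicalComplex.hom_ext _ _ fun i => ?_
  by_cases h : i = -1
  · subst h; exact ModuleCat.hom_ext (LinearMap.ext h₁)
  by_cases h' : i = 0
  · subst h'; exact ModuleCat.hom_ext (LinearMap.ext h₀)
  exact (isZero_twoTerm d i (by omega)).eq_of_src _ _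

/-- The identity two-term complex is zero in the derived category. -/
theorem isZero_toD_id : IsZero (DRing.toD (twoTerm (LinearMap.id : P →ₗ[B] P))) := by
  let z : twoTerm (LinearMap.id : P →ₗ[B] P) ⟶ twoTerm (LinearMap.id : P →ₗ[B] P) :=
    twoTermMap _ _ 0 0 (fun _ => by simp)
  haveI : QuasiIso z := quasiIso_twoTermMap _ _ _ _ _ (fun x hx _ => hx)
    (fun y hy => ⟨0, rfl, by simpa using hy.symm⟩) (fun v _ _ => ⟨v, rfl⟩)
    (fun y => ⟨0, y, by simp⟩)
  have hz : z = 0 := twoTerm_hom_ext _ _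
    (fun x => (twoTermEquiv₁ _).injective (by rw [twoTermMap_f₁]; simp))
    (fun x => (twoTermEquiv₀ _).injective (by rw [twoTermMap_f₀]; simp))
  have hiso : IsIso (DerivedCategory.Q.map z) :=
    (DerivedCategory.isIso_Q_map_iff_quasiIso _ z).2 inferInstance
  rw [hz, Functor.map_zero] at hiso
  rw [IsZero.iff_id_eq_zero]
  exact (isIsoZeroSelfEquiv _ hiso)

/-- Maps out of a projective in degree zero into a module in degree `-1` vanish. -/
theorem eq_zero_of_projective [Module.Projective B P] (N : Type u) [AddCommGroup N] [Module B N]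
    (f : DRing.toD (twoTerm (0 : PUnit.{u + 1} →ₗ[B] P)) ⟶ (Dual.inD B N)⟦(1 : ℤ)⟧) : f = 0 := by
  let K : CochainComplex (ModuleCat.{u} B) ℤ := twoTerm (0 : PUnit.{u + 1} →ₗ[B] P)
  let S : CochainComplex (ModuleCat.{u} B) ℤ :=
    ((CochainComplex.singleFunctor (ModuleCat.{u} B) 0).obj (ModuleCat.of B N))⟦(1 : ℤ)⟧
  let e : (Dual.inD B N)⟦(1 : ℤ)⟧ ≅ DerivedCategory.Q.obj S :=
    (shiftFunctor _ (1 : ℤ)).mapIso
      ((DerivedCategory.singleFunctorIsoCompQ (ModuleCat.{u} B) 0).app (ModuleCat.of B N)) ≪≫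
      ((DerivedCategory.Q.commShiftIso (1 : ℤ)).app _).symm
  haveI : ∀ i : ℤ, Projective (K.X i) := fun i => by
    by_cases h : i = 0
    · subst h
      haveI : Module.Projective B (K.X 0) :=
        Module.Projective.of_equiv (twoTermEquiv₀ (0 : PUnit.{u + 1} →ₗ[B] P)).symm
      exact (IsProjective.iff_projective (R := B) (K.X 0)).1 inferInstance
    · by_cases h' : i = -1
      · subst h'
        haveI : Subsingleton (K.X (-1)) := (twoTermEquiv₁ (0 : PUnit.{u + 1} →ₗ[B] P)).toEquiv.subsingleton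
        haveI : Module.Projective B (K.X (-1)) := Module.Projective.of_free
        exact (IsProjective.iff_projective (R := B) (K.X (-1))).1 inferInstance
      · exact IsZero.projective (isZero_twoTerm _ i (by omega))
  haveI : K.IsStrictlyLE 0 := (CochainComplex.isStrictlyLE_iff K 0).2 fun i hi => isZero_twoTerm _ i (by omega)
  haveI := CochainComplex.isKProjective_of_projective K 0
  let q := HomotopyCategory.quotient (ModuleCat.{u} B) (ComplexShape.up ℤ)
  obtain ⟨ψ, hψ⟩ := (CochainComplex.IsKProjective.Qh_map_bijective K (q.obj S)).2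
    (((DerivedCategory.quotientCompQhIso (ModuleCat.{u} B)).app K).hom ≫ f ≫ e.hom ≫
      ((DerivedCategory.quotientCompQhIso (ModuleCat.{u} B)).app S).inv)
  obtain ⟨a, rfl⟩ := q.map_surjective ψ
  have ha : a = 0 := by
    ext i : 1
    by_cases h : i = 0
    · subst h
      refine IsZero.eq_of_tgt ?_ _ _
      exact HomologicalComplex.isZero_single_obj_X (ComplexShape.up ℤ) 0 (ModuleCat.of B N) (0 + 1) (by simp)
    · by_cases h' : i = -1
      · subst h'
        haveI : Subsingleton (K.X (-1)) := (twoTermEquiv₁ (0 : PUnit.{u + 1} →ₗ[B] P)).toEquiv.subsingleton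
        exact ModuleCat.hom_ext (LinearMap.ext fun x => by
          rw [Subsingleton.elim x 0, map_zero, map_zero])
      · exact (isZero_twoTerm _ i (by omega)).eq_of_src _ _
  rw [ha, q.map_zero, Functor.map_zero] at hψ
  have h0 : f ≫ e.hom = 0 := by
    rw [← cancel_epi ((DerivedCategory.quotientCompQhIso (ModuleCat.{u} B)).app K).hom, comp_zero,
      ← cancel_mono ((DerivedCategory.quotientCompQhIso (ModuleCat.{u} B)).app S).inv, zero_comp,
      Category.assoc, Category.assoc]
    exact hψ.symm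
  rw [← cancel_mono e.hom, h0, zero_comp]

variable {d : M →ₗ[B] P}

/-- `δ` on a two-term complex, up to null homotopy, factors through degree zero. -/
theorem smul_id_eq (δ : B) (h : P →ₗ[B] M) (hh : ∀ x, h (d x) = δ • x) :
    ∃ (u : DRing.toD (twoTerm d) ⟶ DRing.toD (twoTerm (0 : PUnit.{u + 1} →ₗ[B] P)))
      (v : DRing.toD (twoTerm (0 : PUnit.{u + 1} →ₗ[B] P)) ⟶ DRing.toD (twoTerm d)),
      δ • 𝟙 (DRing.toD (twoTerm d)) = u ≫ v ∧ ((∀ y, d (h y) = δ • y) → u = 0) := by
  let u₀ : twoTerm d ⟶ twoTerm (0 : PUnit.{u + 1} →ₗ[B] P) :=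
    twoTermMap _ _ 0 (δ • LinearMap.id - d.comp h) (fun x => by simp [hh])
  let v₀ : twoTerm (0 : PUnit.{u + 1} →ₗ[B] P) ⟶ twoTerm d :=
    twoTermMap _ _ 0 LinearMap.id (fun x => by simp)
  let p : twoTerm d ⟶ twoTerm (LinearMap.id : P →ₗ[B] P) := twoTermMap _ _ d LinearMap.id (fun x => rfl)
  let r : twoTerm (LinearMap.id : P →ₗ[B] P) ⟶ twoTerm d := twoTermMap _ _ h (d.comp h) (fun x => rfl)
  refine ⟨DerivedCategory.Q.map u₀, DerivedCategory.Q.map v₀, ?_, fun hy => ?_⟩
  · have key : δ • 𝟙 (twoTerm d) = p ≫ r + u₀ ≫ v₀ := twoTerm_hom_ext _ _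
      (fun x => (twoTermEquiv₁ d).injective (by
        show twoTermEquiv₁ d (δ • x) = twoTermEquiv₁ d ((r.f (-1)).hom ((p.f (-1)).hom x) +
          (v₀.f (-1)).hom ((u₀.f (-1)).hom x))
        rw [map_add, twoTermMap_f₁, twoTermMap_f₁, twoTermMap_f₁, map_smul]
        simp [hh]))
      (fun x => (twoTermEquiv₀ d).injective (by
        show twoTermEquiv₀ d (δ • x) = twoTermEquiv₀ d ((r.f 0).hom ((p.f 0).hom x) +
          (v₀.f 0).hom ((u₀.f 0).hom x))
        rw [map_add, twoTermMap_f₀, twoTermMap_f₀, twoTermMap_f₀, twoTermMap_f₀, map_smul]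
        simp))
    have := congrArg DerivedCategory.Q.map key
    rw [Functor.map_smul, CategoryTheory.Functor.map_id, Functor.map_add, Functor.map_comp, Functor.map_comp] at this
    have hp : DerivedCategory.Q.map p = 0 := IsZero.eq_of_tgt isZero_toD_id _ _
    rw [hp, zero_comp, zero_add] at this
    exact this
  · have : u₀ = 0 := twoTerm_hom_ext _ _
      (fun x => (twoTermEquiv₁ _).injective (Subsingleton.elim _ _))
      (fun x => (twoTermEquiv₀ _).injective (by rw [twoTermMap_f₀]; simp [hy]))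
    rw [this, Functor.map_zero]

end NLJac
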